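import Groth.Agent.TorusAb7.Torsion
import Groth.Agent.RedPts82.GaNoTorus

/-!
Homomorphisms from tori to abelian schemes are trivial.
-/

set_option autoImplicit false
universe u

open CategoryTheory CategoryTheory.Limits MonoidalCategory CartesianMonoidalCategory MonObj GrpObj AlgebraicGeometry

namespace Groth.Agent.TorusAb7

open RedPts82

variable {S : Scheme.{u}}

/-- Two morphisms from an affine scheme to a separated scheme which agree after restriction to a
jointly schematically dense family are equal. -/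
theorem eq_of_separating {W A : Over S} [IsAffine W.left] [IsSeparated A.hom] (a b : W ⟶ A)
    {J : Type*} (Z : J → Over S) (s : ∀ i, Z i ⟶ W) (hs : ∀ i, s i ≫ a = s i ≫ b)
    (hinj : ∀ f : Γ(W.left, ⊤), (∀ i, (s i).left.appTop f = 0) → f = 0) : a = b := by
  let e := equalizer.ι a b
  have : IsClosedImmersion e.left := isClosedImmersion_equalizer_ι_left a b
  have : IsAffine (equalizer a b).left := isAffine_of_isAffineHom e.left
  have hinj' : Function.Injective e.left.appTop := by
    rw [injective_iff_map_eq_zero]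
    intro f hf
    refine hinj f fun i => ?_
    have h := congrArg (fun m : Z i ⟶ W => m.left.appTop f)
      (equalizer.lift_ι (f := a) (g := b) (s i) (hs i))
    refine h.symm.trans ?_
    show ((equalizer.lift (s i) (hs i)).left ≫ e.left).appTop f = 0
    rw [Scheme.Hom.comp_appTop, ConcreteCategory.comp_apply, hf]
    exact map_zero _
  have hsurj : Function.Surjective e.left.appTop :=
    ((HasAffineProperty.iff_of_isAffine (P := @IsClosedImmersion)).1 ‹_›).2
  have hiso : IsIso e.left.appTop := (ConcreteCategory.isIso_iff_bijective _).2 ⟨hinj', hsurj⟩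
  have : IsIso e.left :=
    (HasAffineProperty.iff_of_isAffine (P := MorphismProperty.isomorphisms Scheme.{u})).2 ⟨inferInstance, hiso⟩
  have : IsIso ((Over.forget S).map e) := this
  have : IsIso e := isIso_of_reflects_iso e (Over.forget S)
  exact (cancel_epi e).1 (equalizer.condition a b)

/-- A point of the multiplicative group on an affine object where a prime `l` is invertible is killed. -/
theorem comp_eq_one_of_affine (A : Over S) [GrpObj A] [Smooth A.hom] [IsProper A.hom] [GeometricallyConnected A.hom]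
    (ψ : Red.Gm S ⟶ A) [IsMonHom ψ] {D : Scheme.{u}} (g : D ⟶ S) (l : ℕ) (hl : 1 < l)
    (hlD : IsUnit (l : Γ(D, ⊤))) (Y : Over S) [IsAffine Y.left] (hY : Y.left ⟶ D) (hYg : hY ≫ g = Y.hom)
    (t : Y ⟶ Red.Gm S) : t ≫ ψ = 1 := by
  obtain ⟨w, -, hw, -⟩ := exists_polyLift (𝟙 Y) t
  suffices h : polyTu Y ℤ ≫ ψ = 1 by rw [← hw, Category.assoc, h, MonObj.comp_one]
  let Q : ℕ → Type u := fun n => MonoidAlgebra (Gam Y) (Multiplicative (ZMod (l ^ n)))
  let q : ∀ n, DSRing Y ℤ →+* Q n := fun n =>
    MonoidAlgebra.mapDomainRingHom (Gam Y) (AddMonoidHom.toMultiplicative (Int.castAddHom (ZMod (l ^ n))))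
  let Z : ℕ → Over S := fun n => Over.mk (Spec.map (CommRingCat.ofHom (q n)) ≫ (polyDS Y ℤ).hom)
  let s : ∀ n, Z n ⟶ polyDS Y ℤ := fun n => Over.homMk (Spec.map (CommRingCat.ofHom (q n))) rfl
  have hs : ∀ n (f : DSRing Y ℤ), (s n).left.appTop (polyCoord Y ℤ f) =
      (Scheme.ΓSpecIso (CommRingCat.of (Q n))).inv (q n f) := fun n f =>
    (congr($(Scheme.ΓSpecIso_inv_naturality (CommRingCat.ofHom (q n))) f)).symm
  refine eq_of_separating _ _ Z s (fun n => ?_) (fun f hf => ?_)
  · rw [MonObj.comp_one, ← Category.assoc]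
    refine comp_eq_one_of_pow A ψ g (l ^ n) (by rw [Nat.cast_pow]; exact hlD.pow n) (Z n)
      ((s n).left ≫ (polyProj Y ℤ).left ≫ hY) ?_ _ ?_
    · rw [Category.assoc, Category.assoc, hYg, Over.w, Over.w]
    · apply gmFn_injective
      rw [gmFn_pow, gmFn_one, gmFn_comp, gmFn_eq, dsFn_polyTu, hs]
      refine (map_pow _ _ _).symm.trans ?_
      rw [← map_one (Scheme.ΓSpecIso (CommRingCat.of (Q n))).inv.hom]
      refine congrArg _ ?_
      show MonoidAlgebra.mapDomain _ (MonoidAlgebra.single (Multiplicative.ofAdd (1 : ℤ)) (1 : Gam Y)) ^ (l ^ n) = 1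
      rw [MonoidAlgebra.mapDomain_single, MonoidAlgebra.single_pow, one_pow]
      show MonoidAlgebra.single (Multiplicative.ofAdd (((1 : ℤ) : ZMod (l ^ n))) ^ (l ^ n)) (1 : Gam Y) = 1
      rw [← ofAdd_nsmul, Int.cast_one, nsmul_one, ZMod.natCast_self]
      rfl
  · obtain ⟨c, rfl⟩ := (polyCoord_bijective Y ℤ).2 f
    obtain ⟨M, hM⟩ := (c.coeff.support.image fun k => (Multiplicative.toAdd k).natAbs).bddAbove
    have hinjOn : Set.InjOn (AddMonoidHom.toMultiplicative (Int.castAddHom (ZMod (l ^ (2 * M + 1)))))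
        (c.coeff.support : Set (Multiplicative ℤ)) := by
      intro j hj k hk hjk
      have h1 : ((Multiplicative.toAdd j : ℤ) : ZMod (l ^ (2 * M + 1))) = (Multiplicative.toAdd k : ℤ) :=
        congrArg Multiplicative.toAdd hjk
      rw [ZMod.intCast_eq_intCast_iff_dvd_sub] at h1
      have hbj : (Multiplicative.toAdd j).natAbs ≤ M := hM (Finset.mem_image_of_mem _ hj)
      have hbk : (Multiplicative.toAdd k).natAbs ≤ M := hM (Finset.mem_image_of_mem _ hk)
      have hlt : 2 * M + 1 < l ^ (2 * M + 1) := Nat.lt_pow_self hl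
      have h2 := Int.eq_zero_of_dvd_of_natAbs_lt_natAbs h1 (by omega)
      exact Multiplicative.toAdd.injective (by omega)
    have h0 := hf (2 * M + 1)
    rw [hs] at h0
    have h1 : q (2 * M + 1) c = 0 :=
      (Scheme.ΓSpecIso (CommRingCat.of (Q (2 * M + 1)))).commRingCatIsoToRingEquiv.symm.injective
        (h0.trans (map_zero _).symm)
    have h2 : c.coeff = 0 := by
      refine Finsupp.mapDomain_injOn (S := (c.coeff.support : Set (Multiplicative ℤ))) hinjOn
        (by simp) (by simp) ?_
      rw [Finsupp.mapDomain_zero]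
      exact congrArg MonoidAlgebra.coeff h1
    rw [show c = 0 from MonoidAlgebra.ext h2, map_zero]

/-- A homomorphism from the multiplicative group to an abelian scheme is trivial. -/
theorem hom_Gm_eq_one (A : Over S) [GrpObj A] [Smooth A.hom] [IsProper A.hom] [GeometricallyConnected A.hom]
    (ψ : Red.Gm S ⟶ A) [IsMonHom ψ] : ψ = 1 := by
  refine hom_ext_affine fun Z hZ t => ?_
  rw [MonObj.comp_one]
  let f : ℕ → Z.left.Opens := fun l => Z.left.basicOpen (l : Γ(Z.left, ⊤))
  have key : ∀ l : ℕ, 1 < l → (f l).ι ≫ (t ≫ ψ).left = (f l).ι ≫ (1 : Z ⟶ A).left := by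
    intro l hl
    have : IsAffine (f l : Scheme.{u}) := (isAffineOpen_top Z.left).basicOpen _
    let Y : Over S := Over.mk ((f l).ι ≫ Z.hom)
    let j : Y ⟶ Z := Over.homMk (f l).ι rfl
    have hu : IsUnit (l : Γ((f l : Scheme.{u}), ⊤)) := by
      have h := RingedSpace.isUnit_res_basicOpen Z.left.toLocallyRingedSpace.toRingedSpace (l : Γ(Z.left, ⊤))
      have h' : IsUnit ((l : ℕ) : Γ(Z.left, f l)) := by
        rw [← map_natCast (Z.left.presheaf.map (homOfLE (le_top : f l ≤ ⊤)).op).hom l]
        exact h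
      simpa using h'.map (f l).topIso.inv.hom
    have : IsAffine Y.left := inferInstanceAs (IsAffine (f l : Scheme.{u}))
    have h := comp_eq_one_of_affine A ψ ((f l).ι ≫ Z.hom) l hl hu Y (𝟙 _) (Category.id_comp _) (j ≫ t)
    have h' : j ≫ (t ≫ ψ) = j ≫ (1 : Z ⟶ A) := by rw [← Category.assoc, h, MonObj.comp_one]
    exact congrArg (fun m : Y ⟶ A => m.left) h'
  refine Over.OverMorphism.ext ?_
  have hcov : TopologicalSpace.IsOpenCover (fun b : Bool => if b then f 2 else f 3) := by
    refine TopologicalSpace.IsOpenCover.mk (eq_top_iff.2 fun x _ => ?_)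
    rw [TopologicalSpace.Opens.mem_iSup]
    by_contra hx
    push Not at hx
    have h2 : x ∉ Z.left.basicOpen ((2 : ℕ) : Γ(Z.left, ⊤)) := hx true
    have h3 : x ∉ Z.left.basicOpen ((3 : ℕ) : Γ(Z.left, ⊤)) := hx false
    rw [Scheme.mem_basicOpen_top, map_natCast] at h2 h3
    have h1 : ((3 : ℕ) : Z.left.presheaf.stalk x) + -((2 : ℕ) : Z.left.presheaf.stalk x) = 1 := by
      push_cast; norm_num
    rcases IsLocalRing.isUnit_or_isUnit_of_add_one h1 with h | h
    · exact h3 h
    · exact h2 (IsUnit.neg_iff _ |>.1 h)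
  refine (Z.left.openCoverOfIsOpenCover _ hcov).hom_ext _ _ fun b => ?_
  cases b
  · exact key 3 (by norm_num)
  · exact key 2 (by norm_num)

/-- A homomorphism from a split torus to an abelian scheme is trivial. -/
theorem hom_DS_eq_one {r : ℕ} (A : Over S) [GrpObj A] [Smooth A.hom] [IsProper A.hom] [GeometricallyConnected A.hom]
    (ψ : Red.DS S (Fin r → ℤ) ⟶ A) [IsMonHom ψ] : ψ = 1 := by
  classical
  refine hom_ext_affine fun Z _ t => ?_
  rw [MonObj.comp_one]
  let u : Fin r → ((Fin r → ℤ) →+ ℤ) := fun i => Pi.evalAddMonoidHom _ i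
  have hsum : ∀ s : Finset (Fin r), ∀ t : Z ⟶ Red.DS S (Fin r → ℤ),
      (∀ m, dsFn t m = dsFn t (∑ i ∈ s, Pi.single i (m i))) → t ≫ ψ = 1 := by
    intro s
    induction s using Finset.induction_on with
    | empty =>
      intro t ht
      rw [show t = 1 from dsFn_injective fun m => by rw [ht m, Finset.sum_empty, dsFn_zero, dsFn_one],
        MonObj.one_comp ψ]
    | insert i s hi ih =>
      intro t ht
      let p₁ : (Fin r → ℤ) →+ (Fin r → ℤ) := (AddMonoidHom.single (fun _ => ℤ) i).comp (u i)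
      let p₂ : (Fin r → ℤ) →+ (Fin r → ℤ) := ∑ j ∈ s, (AddMonoidHom.single (fun _ => ℤ) j).comp (u j)
      have hp₁ : ∀ m, p₁ m = Pi.single i (m i) := fun m => rfl
      have hp₂ : ∀ m, p₂ m = ∑ j ∈ s, Pi.single j (m j) := fun m => by
        simp [p₂, u, AddMonoidHom.finsetSum_apply]
      have h : t = (t ≫ Red.DSmap S p₁) * (t ≫ Red.DSmap S p₂) := dsFn_injective fun m => by
        rw [dsFn_mul, dsFn_DSmap, dsFn_DSmap, ← dsFn_add, hp₁, hp₂]
        exact (ht m).trans (congrArg _ (Finset.sum_insert hi))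
      rw [h, MonObj.mul_comp]
      have h2 : (t ≫ Red.DSmap S p₂) ≫ ψ = 1 := ih _ fun m => by
        rw [dsFn_DSmap, dsFn_DSmap, hp₂, hp₂]
        refine congrArg _ (Finset.sum_congr rfl fun j hj => ?_)
        rw [Finset.sum_apply, Finset.sum_eq_single j (fun k _ hk => Pi.single_eq_of_ne' hk _)
          (fun h => absurd hj h), Pi.single_eq_same]
      have h1 : (t ≫ Red.DSmap S p₁) ≫ ψ = 1 := by
        let q : ℤ →+ (Fin r → ℤ) := AddMonoidHom.single (fun _ => ℤ) i
        have : IsMonHom (Red.DSmap S (u i)) := isMonHom_of_points _ fun X x y => dsFn_injective fun m => by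
          rw [dsFn_DSmap, dsFn_mul, dsFn_mul, dsFn_DSmap, dsFn_DSmap]
        have hh : Red.DSmap S (u i) ≫ ψ = 1 := hom_Gm_eq_one A (Red.DSmap S (u i) ≫ ψ)
        rw [show t ≫ Red.DSmap S p₁ = (t ≫ Red.DSmap S q) ≫ Red.DSmap S (u i) from dsFn_injective fun m => by
          rw [dsFn_DSmap, dsFn_DSmap, dsFn_DSmap]; rfl, Category.assoc, hh, MonObj.comp_one]
      rw [h1, h2, _root_.one_mul]
  exact hsum Finset.univ t fun m => by rw [Finset.univ_sum_single]

/-- A homomorphism from a torus to an abelian scheme is trivial. -/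
theorem hom_torus_eq_one {T A : Over S} [GrpObj T] (hT : Red.IsTorus T) [GrpObj A] [Smooth A.hom] [IsProper A.hom]
    [GeometricallyConnected A.hom] (j : T ⟶ A) [IsMonHom j] : j = 1 := by
  obtain ⟨S', f, hf, hs, -, hloc⟩ := hT
  choose U hU r hr using hloc
  have hcov : TopologicalSpace.IsOpenCover U := by
    rw [TopologicalSpace.IsOpenCover, eq_top_iff]
    exact fun x _ => TopologicalSpace.Opens.mem_iSup.mpr ⟨x, hU x⟩
  have hchart : ∀ v, Kills ((U v).ι ≫ f) j := by
    intro v
    rw [← pullback_map_eq_one_iff]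
    obtain ⟨e⟩ := hr v
    let e' : Red.bc ((U v).ι ≫ f) T ≅ Red.DS (U v : Scheme.{u}) (Fin (r v) → ℤ) :=
      (Grp.forget _).mapIso e
    have : IsMonHom e'.inv := e.inv.hom.isMonHom_hom
    let B : Over (U v : Scheme.{u}) := Red.bc ((U v).ι ≫ f) A
    have : Smooth B.hom := inferInstanceAs (Smooth (pullback.snd A.hom _))
    have : IsProper B.hom := inferInstanceAs (IsProper (pullback.snd A.hom _))
    have : GeometricallyConnected B.hom := inferInstanceAs (GeometricallyConnected (pullback.snd A.hom _))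
    have h0 := hom_DS_eq_one B (e'.inv ≫ (Over.pullback ((U v).ι ≫ f)).map j)
    rw [← cancel_epi e'.inv, h0, MonObj.comp_one]
  apply Over.OverMorphism.ext
  have : Surjective (pullback.fst T.hom f) := inferInstance
  have : Epi (pullback.fst T.hom f) := Flat.epi_of_flat_of_surjective _
  rw [← cancel_epi (pullback.fst T.hom f)]
  refine Scheme.Cover.hom_ext ((S'.openCoverOfIsOpenCover U hcov).pullback₁ (pullback.snd T.hom f))
    _ _ fun (v : S') => ?_
  change pullback.fst (pullback.snd T.hom f) (U v).ι ≫ pullback.fst T.hom f ≫ j.left =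
    pullback.fst (pullback.snd T.hom f) (U v).ι ≫ pullback.fst T.hom f ≫ _
  let Z : Over S := Over.mk ((pullback.fst (pullback.snd T.hom f) (U v).ι ≫ pullback.fst T.hom f) ≫ T.hom)
  let t : Z ⟶ T := Over.homMk (pullback.fst (pullback.snd T.hom f) (U v).ι ≫ pullback.fst T.hom f) rfl
  have h := hchart v Z (pullback.snd _ _) (by
    show pullback.snd (pullback.snd T.hom f) (U v).ι ≫ (U v).ι ≫ f =
      (pullback.fst (pullback.snd T.hom f) (U v).ι ≫ pullback.fst T.hom f) ≫ T.hom
    rw [← pullback.condition_assoc, Category.assoc, pullback.condition]) t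
  rw [← Category.assoc, ← Category.assoc]
  exact congrArg CommaMorphism.left (h.trans (MonObj.comp_one t).symm)

end Groth.Agent.TorusAb7
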