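import Groth.Agent.PnConst7.Const
import Groth.Agent.Curves2.ProjLineProper
import Groth.Agent.RedPts82.Points

/-!
Homomorphisms from the multiplicative group to a proper group scheme are trivial on field-valued
points.
-/

set_option autoImplicit false
universe u

set_option backward.isDefEq.respectTransparency false

open CategoryTheory CategoryTheory.Limits MonoidalCategory CartesianMonoidalCategory MonObj GrpObj AlgebraicGeometry
open HomogeneousLocalization

noncomputable section

namespace Groth.Agent.TorusAb7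

open Approx60.ProjCharts RedPts82

variable {S : Scheme.{u}}

/-- A homomorphism from the multiplicative group to a proper group scheme is trivial on points with
values in a field. -/
theorem comp_eq_one_of_field (A : Over S) [GrpObj A] [IsProper A.hom] (ψ : Red.Gm S ⟶ A) [IsMonHom ψ]
    (K : Type u) [Field K] (y : Spec (CommRingCat.of K) ⟶ S) (x : Over.mk y ⟶ Red.Gm S) :
    x ≫ ψ = 1 := by
  classical
  let R := Away (CohB1.polyGrading 1 K) (MvPolynomial.X (0 : Fin 2))
  let κ : K →+* R := (fromZeroRingHom (CohB1.polyGrading 1 K) _).comp (algebraMap K (CohB1.polyGrading 1 K 0))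
  let t : R := frac K 1 0 (X₁ K 1 1)
  let R' := Localization.Away t
  let κ' : K →+* R' := (algebraMap R R').comp κ
  have hu : ∀ a : K, IsUnit (MvPolynomial.eval₂Hom (RingHom.id K) ![1, a] (MvPolynomial.X (0 : Fin 2))) :=
    fun a => isUnit_eval_X _ _ _ (by simp)
  let ev : K → (R →+* K) := fun a =>
    awayEval (MvPolynomial.eval₂Hom (RingHom.id K) ![1, a]) _ (hu a)
  have hevt : ∀ a, ev a t = a := fun a => awayEval_frac _ _ _ (by simp) (hu a) 1
  have hevκ : ∀ a, (ev a).comp κ = RingHom.id K := fun a => RingHom.ext fun r => awayEval_const _ _ _ (hu a) r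
  let ev' : Kˣ → (R' →+* K) := fun a =>
    IsLocalization.Away.lift (S := R') t (g := ev a) (by rw [hevt]; exact a.isUnit)
  have hev' : ∀ a, (ev' a).comp (algebraMap R R') = ev a := fun a => IsLocalization.Away.lift_comp t _
  have hevκ' : ∀ a, (ev' a).comp κ' = RingHom.id K := fun a => by
    rw [← RingHom.comp_assoc, hev', hevκ]
  -- the open chart `P¹ - {0, ∞}`
  let U : Over S := Over.mk (Spec.map (CommRingCat.ofHom κ') ≫ y)
  let e' := (Scheme.ΓSpecIso (CommRingCat.of R')).inv
  have ht' : IsUnit (e' (algebraMap R R' t)) :=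
    (IsLocalization.Away.algebraMap_isUnit (S := R') t).map e'.hom
  obtain ⟨π, hπ⟩ := gmFn_surjective (X := U) ht'
  let u := π ≫ ψ
  let ιU : Spec (CommRingCat.of R') ⟶ CohB1.ProjSpace 1 K :=
    Spec.map (CommRingCat.ofHom (algebraMap R R')) ≫
      Proj.awayι (CohB1.polyGrading 1 K) (MvPolynomial.X 0) (X₁ K 1 0).2 one_pos
  have : IsOpenImmersion (Spec.map (CommRingCat.ofHom (algebraMap R R'))) :=
    IsOpenImmersion.of_isLocalization t
  have : IsOpenImmersion (Proj.awayι (CohB1.polyGrading 1 K) (MvPolynomial.X (0 : Fin 2)) (X₁ K 1 0).2 one_pos) :=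
    inferInstance
  have : IsOpenImmersion ιU := inferInstanceAs (IsOpenImmersion (_ ≫ _))
  have hιU : ιU ≫ CohB1.ProjSpace.toSpec 1 K = Spec.map (CommRingCat.ofHom κ') := by
    rw [Category.assoc, CohB1.ProjSpace.toSpec, Proj.awayι_toSpecZero_assoc, ← Spec.map_comp,
      ← Spec.map_comp]
    rfl
  let uK : Spec (CommRingCat.of R') ⟶ pullback A.hom y :=
    pullback.lift u.left (Spec.map (CommRingCat.ofHom κ')) (Over.w u)
  have : IsIntegral (CohB1.ProjSpace 1 K) := Curves2.ProjLine.isIntegral K 1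
  have : IsLocallyNoetherian (CohB1.ProjSpace 1 K) := Curves2.ProjLine.isLocallyNoetherian K 1
  have : Nonempty ιU.opensRange := ⟨⟨_, ⟨(Spec.map (CommRingCat.ofHom (ev' 1))) (IsLocalRing.closedPoint K), rfl⟩⟩⟩
  obtain ⟨g', hg'1, hg'2⟩ := Curves2.exists_extension_of_valuationRing (pullback.snd A.hom y)
    (CohB1.ProjSpace.toSpec 1 K) (Curves2.ProjLine.valuationRing_stalk K) ιU.opensRange
    (ιU.isoOpensRange.inv ≫ uK) (by
      rw [Category.assoc, pullback.lift_snd, ← hιU, Scheme.Hom.isoOpensRange_inv_comp_assoc])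
  have hext : ιU ≫ g' = uK := by
    rw [← Scheme.Hom.isoOpensRange_hom_ι ιU, Category.assoc, hg'2, Iso.hom_inv_id_assoc]
  let G : Over (Spec (CommRingCat.of K)) := Red.bc y A
  have : IsProper G.hom := inferInstanceAs (IsProper (pullback.snd A.hom y))
  obtain ⟨z, hz⟩ := PnConst7.eq_toUnit_comp 1 K G (Over.homMk g' hg'1)
  let c : Over.mk y ⟶ A := Over.homMk
    ((z ≫ (Over.homMk g' hg'1 : Over.mk (CohB1.ProjSpace.toSpec 1 K) ⟶ G)).left ≫ pullback.fst A.hom y) (by
      show (_ ≫ pullback.fst A.hom y) ≫ A.hom = y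
      rw [Category.assoc, pullback.condition, ← Category.assoc]
      conv_lhs => arg 1; exact Over.w (z ≫ (Over.homMk g' hg'1 : Over.mk (CohB1.ProjSpace.toSpec 1 K) ⟶ G))
      exact Category.id_comp _)
  have hu' : u.left = Spec.map (CommRingCat.ofHom κ') ≫ c.left := by
    have h1 : g' = (toUnit (Over.mk (CohB1.ProjSpace.toSpec 1 K))).left ≫
        (z ≫ (Over.homMk g' hg'1 : Over.mk (CohB1.ProjSpace.toSpec 1 K) ⟶ G)).left :=
      congrArg (fun f : Over.mk (CohB1.ProjSpace.toSpec 1 K) ⟶ G => f.left) hz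
    have h2 := congrArg (fun f => ιU ≫ f ≫ pullback.fst A.hom y) h1
    simp only [Over.toUnit_left] at h2
    rw [reassoc_of% hext, pullback.lift_fst] at h2
    rw [h2]
    refine (congrArg (ιU ≫ ·) (Category.assoc _ _ _)).trans ?_
    exact (Category.assoc _ _ _).symm.trans (congrArg (· ≫ _) hιU)
  have key : ∀ x : Over.mk y ⟶ Red.Gm S, x ≫ ψ = c := by
    intro x
    let a' := (Scheme.ΓSpecIso (CommRingCat.of K)).hom (Red.gmFn x)
    have ha : IsUnit a' := (gmFn_isUnit x).map (Scheme.ΓSpecIso (CommRingCat.of K)).hom.hom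
    let a : Kˣ := ha.unit
    let ρ : Over.mk y ⟶ U := Over.homMk (Spec.map (CommRingCat.ofHom (ev' a))) (by
      show Spec.map _ ≫ Spec.map _ ≫ y = y
      rw [← Spec.map_comp_assoc, ← CommRingCat.ofHom_comp, hevκ']
      simp)
    have hρπ : ρ ≫ π = x := by
      apply gmFn_injective
      rw [gmFn_comp, hπ]
      show (Spec.map (CommRingCat.ofHom (ev' a))).appTop (e' (algebraMap R R' t)) = _
      have h1 := congr($(Scheme.ΓSpecIso_inv_naturality (CommRingCat.ofHom (ev' a))) (algebraMap R R' t))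
      refine h1.symm.trans ?_
      show (Scheme.ΓSpecIso (CommRingCat.of K)).inv (((ev' a).comp (algebraMap R R')) t) = _
      rw [hev', hevt]
      show (Scheme.ΓSpecIso (CommRingCat.of K)).inv ((Scheme.ΓSpecIso (CommRingCat.of K)).hom (Red.gmFn x)) = _
      rw [← ConcreteCategory.comp_apply, Iso.hom_inv_id]
      rfl
    rw [← hρπ, Category.assoc]
    ext : 1
    show Spec.map (CommRingCat.ofHom (ev' a)) ≫ u.left = c.left
    rw [hu', ← Spec.map_comp_assoc, ← CommRingCat.ofHom_comp, hevκ']
    simp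
  have h1 := key 1
  rw [MonObj.one_comp ψ] at h1
  rw [key x, ← h1]

end Groth.Agent.TorusAb7
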