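import Groth.Agent.TorusAb7.Field
import Groth.Agent.S7789
import Groth.Agent.AbSch7.SmoothFib
import Groth.Agent.Unr55.Rigid
import Groth.Agent.RedPts82.DSChar

/-!
Homomorphisms from the multiplicative group to an abelian scheme kill torsion points of order
prime to the residue characteristics.
-/

set_option autoImplicit false
universe u


open CategoryTheory CategoryTheory.Limits MonoidalCategory CartesianMonoidalCategory MonObj GrpObj AlgebraicGeometry

namespace Groth.Agent.TorusAb7

open RedPts82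

variable {S : Scheme.{u}}

/-- The transpose of a power. -/
lemma toBase_pow {D : Scheme.{u}} (g : D ⟶ S) {A : Over S} [GrpObj A] {X : Over D} (x : X ⟶ Red.bc g A)
    (n : ℕ) : toBase g (x ^ n) = toBase g x ^ n := by
  induction n with
  | zero => rw [_root_.pow_zero, _root_.pow_zero, toBase_one]
  | succ k ih => rw [_root_.pow_succ, _root_.pow_succ, toBase_mul, ih]

lemma pow_comp_eq_one {C : Type*} [Category C] [CartesianMonoidalCategory C] {G H X : C} [GrpObj G] [GrpObj H]
    (f : G ⟶ H) [IsMonHom f] {x : X ⟶ G} {n : ℕ} (hx : x ^ n = 1) : (x ≫ f) ^ n = 1 := by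
  rw [← MonObj.pow_comp, hx, MonObj.one_comp f]

/-- A homomorphism from the multiplicative group to an abelian scheme kills `N`-torsion points when `N`
is invertible. -/
theorem comp_eq_one_of_pow (A : Over S) [GrpObj A] [Smooth A.hom] [IsProper A.hom] [GeometricallyConnected A.hom]
    (ψ : Red.Gm S ⟶ A) [IsMonHom ψ] {D : Scheme.{u}} (g : D ⟶ S) (N : ℕ) (hN : IsUnit (N : Γ(D, ⊤)))
    (Y : Over S) (hY : Y.left ⟶ D) (hYg : hY ≫ g = Y.hom) (y : Y ⟶ Red.Gm S) (hy : y ^ N = 1) :
    y ≫ ψ = 1 := by
  let B : Over D := Red.bc g A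
  have : Smooth B.hom := inferInstanceAs (Smooth (pullback.snd A.hom g))
  have : IsProper B.hom := inferInstanceAs (IsProper (pullback.snd A.hom g))
  have : GeometricallyConnected B.hom := inferInstanceAs (GeometricallyConnected (pullback.snd A.hom g))
  have := AbSch7.geometricallyReduced_of_smooth B.hom
  obtain ⟨-, het⟩ := Groth.Agent.S7789.result B (N : ℤ) (by simpa using hN)
  let X : Over D := Over.mk hY
  let e : (Over.map g).obj X ≅ Y := Over.isoMk (Iso.refl _) (by
    show 𝟙 _ ≫ Y.hom = hY ≫ g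
    rw [Category.id_comp, hYg])
  let a : X ⟶ B := ofBase g (e.hom ≫ y ≫ ψ)
  have hpow : a ^ N = 1 := by
    apply toBase_injective g
    rw [toBase_pow, toBase_ofBase, toBase_one, ← MonObj.comp_pow, pow_comp_eq_one ψ hy, MonObj.comp_one]
  have haπ : a ≫ (𝟙 B ^ (N : ℤ)) = (1 : X ⟶ B) ≫ (𝟙 B ^ (N : ℤ)) := by
    rw [GrpObj.comp_zpow, GrpObj.comp_zpow, Category.comp_id, Category.comp_id, zpow_natCast, hpow, one_zpow]
  obtain ⟨W, hW, hmem, -⟩ := Unr55.exists_eqLocus (𝟙 B ^ (N : ℤ)).left a.left (1 : X ⟶ B).left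
    (congrArg (fun f : X ⟶ B => f.left) haπ)
  have hW' : ∀ p, p ∈ W := by
    intro p
    let t : Spec (CommRingCat.of (X.left.residueField p)) ⟶ X.left := X.left.fromSpecResidueField p
    refine hmem t ?_ ⟨IsLocalRing.closedPoint _, Scheme.fromSpecResidueField_apply _ _⟩
    let q : Over.mk (t ≫ hY) ⟶ X := Over.homMk t rfl
    suffices q ≫ a = q ≫ 1 from congrArg (fun f : Over.mk (t ≫ hY) ⟶ B => f.left) this
    apply toBase_injective g
    rw [MonObj.comp_one, toBase_one, toBase_comp, toBase_ofBase]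
    let q' : Over.mk (t ≫ Y.hom) ⟶ (Over.map g).obj (Over.mk (t ≫ hY)) := Over.homMk (𝟙 _) (by
      show 𝟙 _ ≫ (t ≫ hY) ≫ g = t ≫ Y.hom
      rw [Category.id_comp, Category.assoc, hYg])
    have : IsIso q' := by
      have : IsIso ((Over.forget S).map q') := inferInstanceAs (IsIso (𝟙 _))
      exact isIso_of_reflects_iso q' (Over.forget S)
    rw [← cancel_epi q', MonObj.comp_one]
    simp only [← Category.assoc]
    exact comp_eq_one_of_field A ψ _ _ _
  have hW'' : W = ⊤ := top_le_iff.1 fun p _ => hW' p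
  subst hW''
  have ha : a = 1 := Over.OverMorphism.ext ((cancel_epi (Scheme.topIso X.left).hom).1 hW)
  rw [← cancel_epi e.hom, MonObj.comp_one]
  refine Eq.trans (toBase_ofBase g _).symm ?_
  show toBase g a = 1
  rw [ha, toBase_one]

end Groth.Agent.TorusAb7
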